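import Mathlib
import Cfsg.Agent.Lib.Helper50.FOT.Defs

/-!
# Project FOT (S3999): package [CNT5]

If `5 ∥ |H|` then the number of elements of order 5 is four times the number of Sylow
5-subgroups.
-/

set_option autoImplicit false

namespace Cfsg.Agent.Lib.Helper59.FOT

open Cfsg.Agent.Lib.Helper50.FOT

universe u

theorem card_ne_one_sub {P : Type u} [Group P] [Finite P] :
    Nat.card {y : P // y ≠ 1} = Nat.card P - 1 := by
  classical
  haveI : Fintype P := Fintype.ofFinite P
  rw [Nat.card_eq_fintype_card, Nat.card_eq_fintype_card, Fintype.card_subtype,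
    Finset.filter_ne' Finset.univ (1 : P), Finset.card_erase_of_mem (Finset.mem_univ _),
    Finset.card_univ]

theorem pkgCnt5 : PkgCnt5.{u} := by
  intro H _ _ h5 h25
  classical
  haveI : Fact (Nat.Prime 5) := ⟨by norm_num⟩
  have hpos : Nat.card H ≠ 0 := Nat.card_pos.ne'
  have hfac : (Nat.card H).factorization 5 = 1 := by
    have h1 : 1 ≤ (Nat.card H).factorization 5 :=
      (Nat.Prime.dvd_iff_one_le_factorization (by norm_num) hpos).mp h5
    have h2 : ¬ 2 ≤ (Nat.card H).factorization 5 := by
      intro h
      apply h25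
      have := (Nat.Prime.pow_dvd_iff_le_factorization (by norm_num : Nat.Prime 5) hpos).mpr h
      simpa using this
    omega
  have hcardP : ∀ P : Sylow 5 H, Nat.card P = 5 := by
    intro P
    rw [Sylow.card_eq_multiplicity, hfac, pow_one]
  have key : ∀ (P : Sylow 5 H) (y : H), y ∈ P → y ≠ 1 →
      orderOf y = 5 ∧ Subgroup.zpowers y = (P : Subgroup H) := by
    intro P y hy hy1
    have hd : orderOf y ∣ 5 := by
      have := Subgroup.orderOf_dvd_natCard (P : Subgroup H) hy
      rwa [hcardP P] at this
    have ho : orderOf y = 5 := by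
      rcases (Nat.Prime.eq_one_or_self_of_dvd (by norm_num : Nat.Prime 5) _ hd) with h | h
      · exact absurd (orderOf_eq_one_iff.mp h) hy1
      · exact h
    refine ⟨ho, ?_⟩
    apply Subgroup.eq_of_le_of_card_ge (Subgroup.zpowers_le.mpr hy)
    rw [Nat.card_zpowers, ho]
    exact (hcardP P).le
  haveI : Fintype (Sylow 5 H) := Fintype.ofFinite _
  obtain ⟨f, hf⟩ : ∃ f : {y : H // orderOf y = 5} → Sylow 5 H,
      ∀ y, ((f y : Sylow 5 H) : Subgroup H) = Subgroup.zpowers y.1 :=
    ⟨fun y => Sylow.ofCard (Subgroup.zpowers y.1) (by rw [Nat.card_zpowers, y.2, hfac, pow_one]),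
      fun y => Sylow.coe_ofCard _ _⟩
  rw [← Nat.card_congr (Equiv.sigmaFiberEquiv f), Nat.card_sigma]
  have hfib : ∀ P : Sylow 5 H, Nat.card {a : {y : H // orderOf y = 5} // f a = P} = 4 := by
    intro P
    have e : {a : {y : H // orderOf y = 5} // f a = P} ≃ {y : (P : Subgroup H) // y ≠ 1} :=
      { toFun := fun a => ⟨⟨a.1.1, by
            have h := hf a.1
            rw [a.2] at h
            rw [h]
            exact Subgroup.mem_zpowers _⟩, by
            intro h
            have h1 : a.1.1 = 1 := congrArg Subtype.val h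
            have h2 := a.1.2
            rw [h1, orderOf_one] at h2
            omega⟩
        invFun := fun y => ⟨⟨y.1.1, (key P y.1.1 y.1.2 (by
            intro h
            exact y.2 (Subtype.ext h))).1⟩, by
            apply Sylow.ext
            rw [hf]
            exact (key P y.1.1 y.1.2 (by
              intro h
              exact y.2 (Subtype.ext h))).2⟩
        left_inv := fun a => rfl
        right_inv := fun y => rfl }
    rw [Nat.card_congr e, card_ne_one_sub, hcardP P]
  simp only [hfib, Finset.sum_const, Finset.card_univ, smul_eq_mul, Nat.card_eq_fintype_card]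
  rw [mul_comm]

end Cfsg.Agent.Lib.Helper59.FOT
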